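import Cfsg.Agent.Lib.Recog.FiTypes.Fi24Class
import Cfsg.Agent.Lib.Recog.FiFour.Simple
import Cfsg.Agent.Lib.Recog.FiThree.Cover

set_option autoImplicit false
set_option maxRecDepth 20000

/-!
A commuting pair in a group identified with Fi24: the even part of the centraliser of the first member is Fi23 and
the second member corresponds to the central involution of the double cover of Fi22 (owner: helper11).
-/

namespace CfsgLib.Recog.FiFourProd

open Cfsg CfsgLib.Recog.FiFour CfsgLib.Recog.FiTypes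
open CfsgLib.Recog.FiFour.Aut (dOne l_mem)

attribute [local instance] FiThree.finite_fi23' finite_fi24

universe u

variable {G : Type u} [Group G] {D : Set G}

/-- A copy of Fi23 in the derived subgroup attached to a commuting pair. -/
structure PairFrame (D : Set G) (d₁ d₂ : G) where
  toG : Spor.Fi23 →* G
  inj : Function.Injective toG
  zz : toG FiThree.zz = d₁ * d₂
  comm : ∀ u, Commute (toG u) d₁
  mem : ∀ u, toG u ∈ commutator G
  notMem : d₁ ∉ commutator G
  cases : ∀ x, x ∈ commutator G ∨ x * d₁ ∈ commutator G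
  surj : ∀ x ∈ commutator G, Commute x d₁ → x ∈ toG.range
  nbMem : ∀ t ∈ FiThree.trans, toG t * d₁ ∈ D
  nbCases : ∀ z ∈ D, z ≠ d₁ → Commute d₁ z → ∃ t ∈ FiThree.trans, z = toG t * d₁

theorem parity_cases (z : Multiplicative (ZMod 2)) : z = 1 ∨ z = Multiplicative.ofAdd 1 := by revert z; decide

theorem exists_pairFrame (hD : IsThreeTranspositionGroup D) (hprim : IsPrimitiveUnderConj D)
    (e : Spor.Fi24 ≃* G) (he : e '' D24 = D) {d₁ d₂ : G} (h₁ : d₁ ∈ D) (h₂ : d₂ ∈ D) (hne : d₁ ≠ d₂)
    (hc : Commute d₁ d₂) : Nonempty (PairFrame D d₁ d₂) := by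
  have hl : e (gg 11) ∈ D := he ▸ ⟨gg 11, mem_conjugatesOf_self, rfl⟩
  obtain ⟨g, hg⟩ := hprim.1 _ hl d₁ h₁
  let f : Spor.Fi24 ≃* G := e.trans (MulAut.conj g)
  have hf₁ : f (gg 11) = d₁ := hg
  have hmem : f.symm d₂ ∈ D24 := by
    have h := hD.2.1 g⁻¹ d₂ h₂
    rw [← he] at h
    obtain ⟨x, hx, hxe⟩ := h
    have : f x = d₂ := by
      show g * e x * g⁻¹ = d₂
      rw [hxe]; group
    rwa [← this, f.symm_apply_apply]
  have hnb : f.symm d₂ ∈ nbS D24 (gg 11) := by
    refine ⟨hmem, fun h => hne ?_, ?_⟩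
    · rw [← hf₁, ← h, f.apply_symm_apply]
    · have h := hc.map f.symm.toMonoidHom
      rwa [MulEquiv.coe_toMonoidHom, ← hf₁, f.symm_apply_apply] at h
  rw [nb24] at hnb
  obtain ⟨t, ht, hte⟩ := hnb
  obtain ⟨u, rfl⟩ := FiThree.mem_trans.1 ht
  let φ : Spor.Fi24 ≃* G := (MulAut.conj (iota u)).trans f
  have hφ₁ : φ (gg 11) = d₁ := by
    show f (iota u * gg 11 * (iota u)⁻¹) = d₁
    rw [← (l_comm_iota u).eq, mul_inv_cancel_right, hf₁]
  have hφ₂ : φ (up FiThree.zz) = d₂ := by
    show f (iota u * up FiThree.zz * (iota u)⁻¹) = d₂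
    rw [iota_conj, hte, f.apply_symm_apply]
  have hcom : ∀ x, x ∈ commutator G ↔ parity (φ.symm x) = 1 := by
    intro x
    rw [← MonoidHom.mem_ker, ← derived_eq, commutator_def, commutator_def,
      ← Subgroup.map_top_of_surjective φ.toMonoidHom φ.surjective, ← Subgroup.map_commutator, Subgroup.mem_map_equiv]
  have hp₁ : parity (φ.symm d₁) = Multiplicative.ofAdd 1 := by
    rw [← hφ₁, φ.symm_apply_apply, parity_gg (by norm_num)]
  refine ⟨{ toG := φ.toMonoidHom.comp iota
            inj := φ.injective.comp iota_injective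
            zz := ?_, comm := ?_, mem := ?_, notMem := ?_, cases := ?_, surj := ?_, nbMem := ?_, nbCases := ?_ }⟩
  · show φ (iota FiThree.zz) = d₁ * d₂
    rw [← hφ₁, ← hφ₂, ← map_mul, up, ← mul_assoc, (l_comm_iota _).eq, mul_assoc, gg_sq, mul_one]
  · intro v
    show Commute (φ (iota v)) d₁
    rw [← hφ₁]
    exact ((l_comm_iota v).symm).map φ.toMonoidHom
  · intro v
    rw [hcom]
    show parity (φ.symm (φ (iota v))) = 1
    rw [φ.symm_apply_apply]
    exact parity_iota v
  · rw [hcom, hp₁]; decide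
  · intro x
    rw [hcom, hcom, map_mul, map_mul, hp₁]
    rcases parity_cases (parity (φ.symm x)) with h | h
    · exact Or.inl h
    · exact Or.inr (by rw [h]; decide)
  · intro x hx hxc
    have hT : φ.symm x ∈ hTop := by
      rw [← centralizer_l, Subgroup.mem_centralizer_singleton_iff]
      have h := hxc.map φ.symm.toMonoidHom
      rw [MulEquiv.coe_toMonoidHom, ← hφ₁, φ.symm_apply_apply] at h
      exact h.eq
    obtain ⟨v, hv⟩ := even_mem_range hT ((hcom x).1 hx)
    exact ⟨v, by show φ (iota v) = x; rw [hv, φ.apply_symm_apply]⟩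
  · intro v hv
    show φ (iota v) * d₁ ∈ D
    rw [← hφ₁, ← map_mul]
    have hv24 : up v ∈ D24 :=
      (show up v ∈ nbS D24 (gg 11) by rw [nb24]; exact ⟨v, hv, rfl⟩).1
    show g * e (iota u * up v * (iota u)⁻¹) * g⁻¹ ∈ D
    refine hD.2.1 g _ ?_
    rw [← he]
    exact ⟨_, IsConj.trans hv24 (isConj_iff.2 ⟨iota u, rfl⟩), rfl⟩
  · intro z hz hzne hzc
    have hm : φ.symm z ∈ nbS D24 (gg 11) := by
      refine ⟨?_, fun h => hzne ?_, ?_⟩
      · have h := hD.2.1 g⁻¹ z hz
        rw [← he] at h
        obtain ⟨x, hx, hxe⟩ := h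
        have e1 : φ ((iota u)⁻¹ * x * iota u) = z := by
          show g * e (iota u * ((iota u)⁻¹ * x * iota u) * (iota u)⁻¹) * g⁻¹ = z
          rw [show iota u * ((iota u)⁻¹ * x * iota u) * (iota u)⁻¹ = x by group, hxe]
          group
        rw [← e1, φ.symm_apply_apply]
        exact IsConj.trans hx (isConj_iff.2 ⟨(iota u)⁻¹, by rw [inv_inv]⟩)
      · rw [← φ.apply_symm_apply z, h, hφ₁]
      · have h := hzc.map φ.symm.toMonoidHom
        rwa [MulEquiv.coe_toMonoidHom, ← hφ₁, φ.symm_apply_apply] at h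
    rw [nb24] at hm
    obtain ⟨t, ht, hte'⟩ := hm
    refine ⟨t, ht, ?_⟩
    show z = φ (iota t) * d₁
    rw [← hφ₁, ← map_mul, show iota t * gg 11 = up t from rfl, hte', φ.apply_symm_apply]

theorem commutator_hSub : commutator ↥FiThree.hSub = ⊤ := by
  set Z := Subgroup.center ↥FiThree.hSub with hZdef
  set C := commutator ↥FiThree.hSub with hCdef
  haveI : C.Normal := by rw [hCdef]; infer_instance
  haveI := FiThree.isSimple_quot
  have hmap : C.map (QuotientGroup.mk' Z) = ⊤ := by
    have hn : (C.map (QuotientGroup.mk' Z)).Normal := Subgroup.Normal.map inferInstance _ (QuotientGroup.mk'_surjective _)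
    refine (IsSimpleGroup.eq_bot_or_eq_top_of_normal _ hn).resolve_left fun hb => ?_
    rw [hCdef, commutator_def, Subgroup.map_commutator,
      Subgroup.map_top_of_surjective _ (QuotientGroup.mk'_surjective _), ← commutator_def] at hb
    letI : CommGroup (↥FiThree.hSub ⧸ Z) := { (inferInstance : Group (↥FiThree.hSub ⧸ Z)) with
      mul_comm := fun x y => commutatorElement_eq_one_iff_mul_comm.1 (Subgroup.mem_bot.1
        (hb ▸ Subgroup.commutator_mem_commutator (Subgroup.mem_top x) (Subgroup.mem_top y))) }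
    have hp := IsSimpleGroup.prime_card (α := ↥FiThree.hSub ⧸ Z)
    rw [FiThree.card_quot] at hp
    norm_num at hp
  have hsup : C ⊔ Z = ⊤ := by
    have h := congrArg (Subgroup.comap (QuotientGroup.mk' Z)) hmap
    rwa [Subgroup.comap_map_eq, QuotientGroup.ker_mk', Subgroup.comap_top] at h
  by_cases hz : FiThree.zH ∈ C
  · rw [← hsup]
    refine le_antisymm le_sup_left (sup_le le_rfl fun n hn => ?_)
    rcases FiThree.center_h n hn with rfl | rfl
    · exact one_mem _
    · exact hz
  · refine absurd ?_ (FiThree.no_complement C)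
    refine Subgroup.isComplement'_of_disjoint_and_mul_eq_univ (Subgroup.disjoint_def.2 fun {n} hn hnC => ?_) ?_
    · rcases FiThree.center_h n hn with rfl | rfl
      · rfl
      · exact absurd hnC hz
    · rw [← Subgroup.normal_mul, sup_comm, hsup]
      rfl

theorem quasisimple_hSub : IsQuasisimple ↥FiThree.hSub := ⟨⟨commutator_hSub⟩, FiThree.isSimple_quot⟩

theorem center_hSub : (Subgroup.center ↥FiThree.hSub).map FiThree.hSub.subtype = Subgroup.zpowers FiThree.zz := by
  ext x
  constructor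
  · rintro ⟨n, hn, rfl⟩
    rcases FiThree.center_h n hn with rfl | rfl
    · exact one_mem _
    · exact Subgroup.mem_zpowers _
  · intro hx
    have h : Subgroup.zpowers FiThree.zz ≤ (Subgroup.center ↥FiThree.hSub).map FiThree.hSub.subtype :=
      Subgroup.zpowers_le.2 ⟨FiThree.zH, FiThree.zH_central, rfl⟩
    exact h hx

namespace PairFrame

variable {d₁ d₂ : G} (F : PairFrame D d₁ d₂)

/-- The joint centraliser of the pair inside the derived subgroup. -/
theorem inf_centralizer (hd₁ : d₁ * d₁ = 1) :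
    commutator G ⊓ Subgroup.centralizer ({d₁, d₂} : Set G) = FiThree.hSub.map F.toG := by
  have hd₂ : d₂ = d₁ * F.toG FiThree.zz := by rw [F.zz, ← mul_assoc, hd₁, one_mul]
  ext x
  rw [Subgroup.mem_inf, Subgroup.mem_centralizer_iff]
  constructor
  · rintro ⟨hx, hc⟩
    obtain ⟨u, rfl⟩ := F.surj x hx (hc d₁ (by simp)).symm
    refine Subgroup.mem_map_of_mem _ ?_
    rw [← FiThree.centralizer_zz, Subgroup.mem_centralizer_singleton_iff]
    refine F.inj ?_
    rw [map_mul, map_mul, F.zz]
    exact (Commute.mul_right (hc d₁ (by simp)).symm (hc d₂ (by simp)).symm).eq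
  · rintro ⟨u, hu, rfl⟩
    refine ⟨F.mem u, fun z hz => ?_⟩
    have h2 : Commute (F.toG u) d₂ := by
      exact (congrArg (Commute (F.toG u)) hd₂).mpr
        ((F.comm u).mul_right ((show Commute u FiThree.zz from FiThree.zz_comm hu).map F.toG))
    rcases hz with rfl | hz
    · exact (F.comm u).eq.symm
    · rw [Set.mem_singleton_iff] at hz
      subst hz
      exact h2.eq.symm

end PairFrame

end CfsgLib.Recog.FiFourProd
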