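import Cfsg.Agent.Lib.Recog.FiFourProd.Extension
import Cfsg.Agent.Lib.Recog.FiFourProd.Frame
import Cfsg.Agent.Lib.Recog.FiTypes.Type23
import Cfsg.Agent.Lib.Recog.SporBound.Fi22Aut.Main
import Cfsg.Agent.Lib.Recog.FiM22Two.SectionPrim
import Cfsg.Agent.S5464

set_option autoImplicit false
set_option maxRecDepth 20000
set_option linter.style.haveILetI false

/-!
The centraliser in the derived subgroup of a product of two commuting transpositions of a group identified with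
Fi24 (owner: helper11).
-/

namespace CfsgLib.Recog.FiFourProd

open Cfsg CfsgLib.ThreeTrans CfsgLib.Recog.SporBound

attribute [local instance] FiThree.finite_fi23'

universe u

variable {G : Type u} [Group G] [Finite G] {D : Set G}

theorem card_mulAut_fi22_le : Nat.card (MulAut Spor.Fi22) ≤ 2 * Nat.card Spor.Fi22 := by
  haveI := Fi22Group.finite_fi22
  rw [Subgroup.card_eq_card_quotient_mul_card_subgroup (Cfsg.Inn Spor.Fi22)]
  exact Nat.mul_le_mul (Fi22Aut.card_out).le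
    (Nat.card_le_card_of_surjective _ (MonoidHom.rangeRestrict_surjective (MulAut.conj : Spor.Fi22 →* MulAut Spor.Fi22)))

theorem pair_centralizer (hD : IsThreeTranspositionGroup D) (hprim : IsPrimitiveUnderConj D) (d₀ : G)
    (hd₀ : d₀ ∈ D)
    (h3 : Cfsg.pCore 3 ↥(Subgroup.closure {y : G | y ∈ D ∧ y ≠ d₀ ∧ Commute d₀ y}) ≤
      Subgroup.center ↥(Subgroup.closure {y : G | y ∈ D ∧ y ≠ d₀ ∧ Commute d₀ y}))
    (h2 : Cfsg.pCore 2 ↥(Subgroup.closure {y : G | y ∈ D ∧ y ≠ d₀ ∧ Commute d₀ y}) ≤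
      Subgroup.center ↥(Subgroup.closure {y : G | y ∈ D ∧ y ≠ d₀ ∧ Commute d₀ y}))
    (h24 : IsOfTypeM24 G D) {d₁ d₂ : G} (h₁ : d₁ ∈ D) (h₂ : d₂ ∈ D) (hne : d₁ ≠ d₂) (hc : Commute d₁ d₂)
    (F : PairFrame D d₁ d₂) (K CL : Subgroup G)
    (hK : K = commutator G ⊓ Subgroup.centralizer ({d₁, d₂} : Set G))
    (hCL : CL = commutator G ⊓ Subgroup.centralizer ({d₁ * d₂} : Set G))
    [hn : ((Subgroup.zpowers (d₁ * d₂)).subgroupOf CL).Normal] :
    IsQuasisimple ↥K ∧ K = (generalizedFittingSubgroup ↥CL).map CL.subtype ∧ K ≤ CL ∧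
      (K.subgroupOf CL).index = 2 ∧ d₁ * d₂ ∈ K ∧
      Nonempty (↥CL ⧸ (Subgroup.zpowers (d₁ * d₂)).subgroupOf CL ≃* MulAut Spor.Fi22) := by
  classical
  have hd₁ : d₁ * d₁ = 1 := mul_self hD.1 h₁
  have hKmap : K = FiThree.hSub.map F.toG := hK.trans (F.inf_centralizer hd₁)
  let ι : ↥FiThree.hSub ≃* ↥K :=
    (FiThree.hSub.equivMapOfInjective F.toG F.inj).trans (MulEquiv.subgroupCongr hKmap.symm)
  have hqs : IsQuasisimple ↥K := (CfsgLib.Components.isQuasisimple_congr ι).1 quasisimple_hSub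
  have hmemCL : ∀ x, x ∈ CL ↔ x ∈ commutator G ∧ x * (d₁ * d₂) * x⁻¹ = d₁ * d₂ := fun x => by
    rw [hCL, Subgroup.mem_inf, Subgroup.mem_centralizer_singleton_iff, mul_inv_eq_iff_eq_mul]
  have hmemK : ∀ x, x ∈ K ↔ x ∈ commutator G ∧ Commute x d₁ ∧ Commute x d₂ := fun x => by
    rw [hK, Subgroup.mem_inf, Subgroup.mem_centralizer_iff]
    refine and_congr_right fun _ => ⟨fun h => ⟨(h d₁ (by simp)).symm, (h d₂ (by simp)).symm⟩, fun h z hz => ?_⟩
    rcases hz with rfl | hz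
    · exact h.1.eq.symm
    · rw [Set.mem_singleton_iff] at hz; subst hz; exact h.2.eq.symm
  have hKC : K ≤ CL := fun x hx => by
    obtain ⟨hL, ha, hb⟩ := (hmemK x).1 hx
    exact (hmemCL x).2 ⟨hL, mul_inv_eq_iff_eq_mul.2 (ha.mul_right hb).eq⟩
  have hjK : d₁ * d₂ ∈ K := by
    rw [hKmap]; exact ⟨FiThree.zz, FiThree.zz_mem_h, F.zz⟩
  have two : ∀ {a b : G}, a ∈ D → b ∈ D → a ≠ b → Commute a b → a * b = d₁ * d₂ → a = d₁ ∨ a = d₂ := by
    intro a b ha hb hab hcab e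
    have key := Cfsg.Agent.S5464.result hD hprim d₀ hd₀ h3 h2 (Or.inr h24) 2 (by norm_num) (d₁ * d₂)
      [a, b] [d₁, d₂]
      ⟨by simp [hab], rfl, by simp [ha, hb], by
        simp only [List.mem_cons, List.not_mem_nil, or_false]
        rintro x (rfl | rfl) y (rfl | rfl)
        exacts [Commute.refl _, hcab, hcab.symm, Commute.refl _], by simpa using e⟩
      ⟨by simp [hne], rfl, by simp [h₁, h₂], by
        simp only [List.mem_cons, List.not_mem_nil, or_false]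
        rintro x (rfl | rfl) y (rfl | rfl)
        exacts [Commute.refl _, hc, hc.symm, Commute.refl _], by simp⟩
    simpa using (key a).1 (by simp)
  have hperm : ∀ c ∈ CL, (c * d₁ * c⁻¹ = d₁ ∧ c * d₂ * c⁻¹ = d₂) ∨ (c * d₁ * c⁻¹ = d₂ ∧ c * d₂ * c⁻¹ = d₁) := by
    intro c hcC
    have hj := ((hmemCL c).1 hcC).2
    have hinj : c * d₁ * c⁻¹ ≠ c * d₂ * c⁻¹ := fun h => hne (mul_left_cancel (mul_right_cancel h))
    have e1 := two (hD.2.1 c _ h₁) (hD.2.1 c _ h₂) hinj (commute_conj_iff.2 hc)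
      (by rw [show c * d₁ * c⁻¹ * (c * d₂ * c⁻¹) = c * (d₁ * d₂) * c⁻¹ by group, hj])
    have e2 := two (hD.2.1 c _ h₂) (hD.2.1 c _ h₁) hinj.symm (commute_conj_iff.2 hc.symm)
      (by rw [show c * d₂ * c⁻¹ * (c * d₁ * c⁻¹) = c * (d₂ * d₁) * c⁻¹ by group, ← hc.eq, hj])
    rcases e1 with e1 | e1 <;> rcases e2 with e2 | e2
    · exact absurd (e1.trans e2.symm) hinj
    · exact Or.inl ⟨e1, e2⟩
    · exact Or.inr ⟨e1, e2⟩
    · exact absurd (e1.trans e2.symm) hinj
  have hfix : ∀ c ∈ CL, c ∈ K ↔ c * d₁ * c⁻¹ = d₁ := fun c hcC => by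
    rw [hmemK]
    refine ⟨fun h => mul_inv_eq_iff_eq_mul.2 h.2.1, fun h => ⟨((hmemCL c).1 hcC).1, ?_⟩⟩
    rcases hperm c hcC with h' | h'
    · exact ⟨mul_inv_eq_iff_eq_mul.1 h'.1, mul_inv_eq_iff_eq_mul.1 h'.2⟩
    · exact absurd (h.symm.trans h'.1) hne
  have S : RankThree.Setting D := FiM22Two.setting_of_prim hD hprim ⟨d₁, h₁, d₂, h₂, hne, hc⟩
  obtain ⟨s, hsL, hs1, hs2⟩ : ∃ s : G, s ∈ commutator G ∧ s * d₁ * s⁻¹ = d₂ ∧ s * d₂ * s⁻¹ = d₁ := by
    obtain ⟨k, hk⟩ := hprim.1 d₁ h₁ d₂ h₂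
    obtain ⟨m, hm, hm'⟩ := S.commute_transitive h₂ (hD.2.1 k d₂ h₂)
      (fun h => hne (mul_left_cancel (mul_right_cancel (hk.trans h.symm))))
      (by have := (commute_conj_iff (g := k)).2 hc; rwa [hk] at this) h₁ hne hc.symm
    have ha : m * k * d₁ * (m * k)⁻¹ = d₂ := by
      rw [show m * k * d₁ * (m * k)⁻¹ = m * (k * d₁ * k⁻¹) * m⁻¹ by group, hk, hm.eq, mul_inv_cancel_right]
    have hb : m * k * d₂ * (m * k)⁻¹ = d₁ := by rw [← hm']; group
    rcases F.cases (m * k) with h | h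
    · exact ⟨m * k, h, ha, hb⟩
    · refine ⟨m * k * d₁, h, ?_, ?_⟩
      · rw [show m * k * d₁ * d₁ * (m * k * d₁)⁻¹ = m * k * (d₁ * d₁ * d₁⁻¹) * (m * k)⁻¹ by group,
          mul_inv_cancel_right, ha]
      · rw [show m * k * d₁ * d₂ * (m * k * d₁)⁻¹ = m * k * (d₁ * d₂ * d₁⁻¹) * (m * k)⁻¹ by group, hc.eq,
          mul_inv_cancel_right, hb]
  have hsC : s ∈ CL := (hmemCL s).2 ⟨hsL, by
    rw [show s * (d₁ * d₂) * s⁻¹ = (s * d₁ * s⁻¹) * (s * d₂ * s⁻¹) by group, hs1, hs2, hc.eq]⟩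
  set K' := K.subgroupOf CL with hK'
  have hindex : K'.index = 2 := by
    refine Subgroup.index_eq_two_iff.2 ⟨⟨s, hsC⟩, fun b => ?_⟩
    rw [Subgroup.mem_subgroupOf, Subgroup.mem_subgroupOf, Subgroup.coe_mul]
    have hbs : (b : G) * s ∈ CL := mul_mem b.2 hsC
    rw [hfix _ b.2, hfix _ hbs]
    have e : (b : G) * s * d₁ * ((b : G) * s)⁻¹ = (b : G) * d₂ * (b : G)⁻¹ := by
      rw [show (b : G) * s * d₁ * ((b : G) * s)⁻¹ = (b : G) * (s * d₁ * s⁻¹) * (b : G)⁻¹ by group, hs1]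
    rw [e]
    rcases hperm b b.2 with h | h
    · exact Or.inr ⟨h.1, fun h' => hne (h'.symm.trans h.2)⟩
    · exact Or.inl ⟨h.2, fun h' => hne (h'.symm.trans h.1)⟩
  haveI hK'n : K'.Normal := Subgroup.normal_of_index_eq_two hindex
  -- an element of the centraliser centralising K lies in K
  have hcentK : ∀ c : ↥CL, c ∈ Subgroup.centralizer (K' : Set ↥CL) → c ∈ K' := by
    intro c hcK
    rw [hK', Subgroup.mem_subgroupOf, hfix _ c.2]
    by_contra hc1
    obtain ⟨hca, hcb⟩ := (hperm c c.2).resolve_left fun h => hc1 h.1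
    obtain ⟨r, hr⟩ : ∃ r, r ∈ FiTypes.nbS FiThree.trans FiThree.zz := by
      by_contra hno
      push Not at hno
      have h := FiTypes.closure_nb23
      rw [Set.eq_empty_iff_forall_notMem.2 hno, Subgroup.closure_empty] at h
      exact absurd (h ▸ FiThree.zz_mem_h : FiThree.zz ∈ (⊥ : Subgroup Spor.Fi23))
        (fun e => by have := FiThree.orderOf_zz; rw [Subgroup.mem_bot.1 e, orderOf_one] at this; omega)
    obtain ⟨hrt, hrne, hrc⟩ := hr
    have hrH : r ∈ FiThree.hSub := by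
      rw [← FiThree.centralizer_zz, Subgroup.mem_centralizer_singleton_iff]
      exact hrc.eq.symm
    set x := F.toG r with hx
    have hxK : x ∈ K := hKmap ▸ Subgroup.mem_map_of_mem _ hrH
    obtain ⟨-, hx1, hx2⟩ := (hmemK x).1 hxK
    have hcx : (c : G) * x * (c : G)⁻¹ = x := by
      have h := Subgroup.mem_centralizer_iff.1 hcK (⟨x, hKC hxK⟩ : ↥CL) hxK
      exact mul_inv_eq_iff_eq_mul.2 (congrArg Subtype.val h).symm
    have hf : x * d₁ ∈ D := F.nbMem r hrt
    have hf' : x * d₂ ∈ D := by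
      have h := hD.2.1 (c : G) _ hf
      rwa [show (c : G) * (x * d₁) * (c : G)⁻¹ = ((c : G) * x * (c : G)⁻¹) * ((c : G) * d₁ * (c : G)⁻¹) by group,
        hcx, hca] at h
    have hxx : x * x = 1 := by
      rw [hx, ← map_mul, mul_self FiThree.trans_class.1 hrt, map_one]
    have hcf : Commute (x * d₁) (x * d₂) :=
      ((Commute.refl x).mul_right hx2).mul_left (hx1.symm.mul_right hc)
    have hprod : x * d₁ * (x * d₂) = d₁ * d₂ := by
      rw [mul_assoc, ← mul_assoc d₁ x d₂, ← hx1.eq, ← mul_assoc, ← mul_assoc, hxx, one_mul]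
    rcases two hf hf' (fun e => hne (mul_left_cancel e)) hcf hprod with e | e
    · have h1 : x = 1 := mul_eq_right.1 e
      have := FiThree.trans_class.1.1 r hrt
      rw [F.inj (h1.trans (map_one _).symm), orderOf_one] at this
      omega
    · refine hrne (F.inj ?_)
      rw [F.zz, ← hx, eq_mul_inv_of_mul_eq e, inv_eq_of_mul_eq_one_right hd₁, hc.eq]
  have hcenter : ∀ c : ↥CL, c ∈ Subgroup.centralizer (K' : Set ↥CL) ↔ (c : G) ∈ Subgroup.zpowers (d₁ * d₂) := by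
    intro c
    constructor
    · intro h
      have hcK : (c : G) ∈ FiThree.hSub.map F.toG := hKmap ▸ (Subgroup.mem_subgroupOf.1 (hcentK c h))
      obtain ⟨u, hu, hue⟩ := hcK
      have huc : (⟨u, hu⟩ : ↥FiThree.hSub) ∈ Subgroup.center ↥FiThree.hSub := by
        refine Subgroup.mem_center_iff.2 fun v => Subtype.ext (F.inj ?_)
        have hvK : F.toG v ∈ K := hKmap ▸ Subgroup.mem_map_of_mem _ v.2
        have hcomm := congrArg Subtype.val
          (Subgroup.mem_centralizer_iff.1 h (⟨F.toG v, hKC hvK⟩ : ↥CL) hvK)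
        simp only [Subgroup.coe_mul] at hcomm
        simp only [Subgroup.coe_mul, map_mul, hue]
        exact hcomm
      have hu' : u ∈ Subgroup.zpowers FiThree.zz := center_hSub ▸ ⟨_, huc, rfl⟩
      obtain ⟨k, rfl⟩ := hu'
      exact ⟨k, by rw [← hue, ← F.zz]; exact (map_zpow F.toG _ _).symm⟩
    · intro h
      refine Subgroup.mem_centralizer_iff.2 fun v hv => Subtype.ext ?_
      obtain ⟨k, hk⟩ := h
      obtain ⟨-, ha, hb⟩ := (hmemK _).1 (Subgroup.mem_subgroupOf.1 hv)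
      show (v : G) * c = c * v
      rw [← hk]
      exact ((ha.mul_right hb).zpow_right k).eq
  let η : ↥FiThree.hSub ≃* ↥K' := ι.trans (Subgroup.subgroupOfEquivOfLe hKC).symm
  have hqs' : IsQuasisimple ↥K' := (CfsgLib.Components.isQuasisimple_congr η).1 quasisimple_hSub
  have hle : Subgroup.centralizer (K' : Set ↥CL) ≤ K' := hcentK
  have hcmap : Subgroup.centralizer (K' : Set ↥CL) = (Subgroup.center ↥K').map K'.subtype := by
    ext c
    constructor
    · intro h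
      exact ⟨⟨c, hle h⟩, Subgroup.mem_center_iff.2 fun v => Subtype.ext
        (Subgroup.mem_centralizer_iff.1 h v v.2), rfl⟩
    · rintro ⟨v, hv, rfl⟩
      exact Subgroup.mem_centralizer_iff.2 fun w hw =>
        congrArg Subtype.val (Subgroup.mem_center_iff.1 hv ⟨w, hw⟩)
  obtain ⟨q⟩ := FiThree.fi22_equiv
  have hmapc : (Subgroup.center ↥FiThree.hSub).map η.toMonoidHom = Subgroup.center ↥K' := by
    ext v
    constructor
    · rintro ⟨w, hw, rfl⟩
      refine Subgroup.mem_center_iff.2 fun z => η.symm.injective ?_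
      rw [map_mul, map_mul]
      simpa using Subgroup.mem_center_iff.1 hw (η.symm z)
    · intro hv
      refine ⟨η.symm v, Subgroup.mem_center_iff.2 fun z => η.injective ?_, by simp⟩
      rw [map_mul, map_mul]
      simpa using Subgroup.mem_center_iff.1 hv (η z)
  haveI := Fi22Group.finite_fi22
  haveI : Finite (MulAut Spor.Fi22) :=
    Finite.of_injective (fun α : MulAut Spor.Fi22 => (α : Spor.Fi22 → Spor.Fi22)) DFunLike.coe_injective
  obtain ⟨φ, hφs, hφk⟩ := quotient_equiv_mulAut hqs' hindex hcmap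
    ((QuotientGroup.congr _ _ η hmapc).symm.trans q) card_mulAut_fi22_le
  have hkerN : φ.ker = (Subgroup.zpowers (d₁ * d₂)).subgroupOf CL := by
    ext c; rw [hφk, hcenter, Subgroup.mem_subgroupOf]
  refine ⟨hqs, ?_, hKC, hindex, hjK, ⟨(QuotientGroup.quotientMulEquivOfEq hkerN.symm).trans
    (QuotientGroup.quotientKerEquivOfSurjective φ hφs)⟩⟩
  rw [gFitting_eq_of_quasisimple hK'n hqs' hle, Subgroup.map_subgroupOf_eq_of_le hKC]

end CfsgLib.Recog.FiFourProd
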