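import Cfsg.Agent.Lib.Components.SchreierBalance
import Cfsg.Agent.Lib.Components.FStar

set_option autoImplicit false

/-!
A group with a normal quasisimple subgroup which contains its centraliser: the generalized Fitting subgroup and the
action on the simple quotient (owner: helper11).
-/

namespace CfsgLib.Recog.FiFourProd

open Cfsg

variable {C : Type*} [Group C] [Finite C] {K : Subgroup C}

/-- A normal quasisimple subgroup containing its centraliser is the generalized Fitting subgroup. -/
theorem gFitting_eq_of_quasisimple (hn : K.Normal) (hq : IsQuasisimple ↥K)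
    (hc : Subgroup.centralizer (K : Set C) ≤ K) : generalizedFittingSubgroup C = K := by
  have hK : IsComponent K := ⟨hn.isSubnormal, hq⟩
  refine le_antisymm (sup_le ?_ ?_) (CfsgLib.Components.component_le_gFitting hK)
  · refine CfsgLib.Components.layer_le_iff.2 fun L hL => ?_
    rcases CfsgLib.Components.components_eq_or_commute hL hK with h | h
    · exact h.le
    · exact (Subgroup.commutator_eq_bot_iff_le_centralizer.1 h).trans hc
  · have h := CfsgLib.Components.component_commutes_fitting hK
    rw [Subgroup.commutator_comm] at h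
    exact (Subgroup.commutator_eq_bot_iff_le_centralizer.1 h).trans hc

omit [Finite C] in
/-- An element moving a perfect subgroup only by its centre centralises it. -/
theorem centralizes_of_mod_center [hn : K.Normal] (hp : Group.IsPerfect ↥K) {c : C}
    (h : ∀ k : ↥K, (MulAut.conjNormal c k) * k⁻¹ ∈ Subgroup.center ↥K) :
    c ∈ Subgroup.centralizer (K : Set C) := by
  set σ : MulAut ↥K := MulAut.conjNormal c with hσ
  have hz : ∀ k m : ↥K, m * (σ k * k⁻¹) = σ k * k⁻¹ * m := fun k => Subgroup.mem_center_iff.1 (h k)
  let ψ : ↥K →* ↥K :=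
    { toFun := fun k => σ k * k⁻¹
      map_one' := by simp
      map_mul' := fun a b => by
        rw [map_mul, mul_inv_rev, show σ a * σ b * (b⁻¹ * a⁻¹) = σ a * ((σ b * b⁻¹) * a⁻¹) by group, ← hz b a⁻¹]
        group }
  have hker : commutator ↥K ≤ ψ.ker := by
    rw [commutator_def, Subgroup.commutator_le]
    intro a _ b _
    rw [MonoidHom.mem_ker, map_commutatorElement, commutatorElement_eq_one_iff_mul_comm]
    exact hz b (ψ a)
  rw [hp.commutator_eq_top] at hker
  refine Subgroup.mem_centralizer_iff.2 fun k hk => ?_
  have e : σ ⟨k, hk⟩ * (⟨k, hk⟩ : ↥K)⁻¹ = 1 := hker (Subgroup.mem_top _)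
  have e' := congrArg Subtype.val (mul_inv_eq_one.1 e)
  rw [MulAut.conjNormal_apply] at e'
  exact (mul_inv_eq_iff_eq_mul.1 e').symm

/-- The action on the simple quotient is onto the automorphisms when the orders allow. -/
theorem quotient_equiv_mulAut [hn : K.Normal] (hq : IsQuasisimple ↥K) {n : ℕ} (hidx : K.index = n)
    (hc : Subgroup.centralizer (K : Set C) = (Subgroup.center ↥K).map K.subtype) {Q : Type*} [Group Q]
    (e : ↥K ⧸ Subgroup.center ↥K ≃* Q) [Finite (MulAut Q)] (hQ : Nat.card (MulAut Q) ≤ n * Nat.card Q) :
    ∃ φ : C →* MulAut Q, Function.Surjective φ ∧ φ.ker = Subgroup.centralizer (K : Set C) := by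
  let φ : C →* MulAut Q := ((MulAut.congr e).toMonoidHom.comp (CfsgLib.Components.centralQuotientAut ↥K)).comp
    (MulAut.conjNormal : C →* MulAut ↥K)
  have hker : φ.ker = Subgroup.centralizer (K : Set C) := by
    ext c
    rw [MonoidHom.mem_ker]
    constructor
    · intro h
      refine centralizes_of_mod_center hq.1 fun k => ?_
      have h1 : CfsgLib.Components.centralQuotientAut ↥K (MulAut.conjNormal c) = 1 :=
        (MulAut.congr e).injective (h.trans (map_one _).symm)
      have h2 : (QuotientGroup.mk (MulAut.conjNormal c k) : ↥K ⧸ Subgroup.center ↥K) = QuotientGroup.mk k :=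
        DFunLike.congr_fun h1 (QuotientGroup.mk k)
      rw [← QuotientGroup.eq_one_iff, QuotientGroup.mk_mul, QuotientGroup.mk_inv, h2, mul_inv_cancel]
    · intro h
      have h1 : (MulAut.conjNormal c : MulAut ↥K) = 1 := MulEquiv.ext fun k => Subtype.ext (by
        rw [MulAut.conjNormal_apply, ← Subgroup.mem_centralizer_iff.1 h k k.2, mul_inv_cancel_right]
        rfl)
      show MulAut.congr e (CfsgLib.Components.centralQuotientAut ↥K (MulAut.conjNormal c)) = 1
      rw [h1, map_one, map_one]
  refine ⟨φ, MonoidHom.range_eq_top.1 (Subgroup.eq_top_of_le_card _ ?_), hker⟩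
  have h1 := Subgroup.card_mul_index φ.ker
  rw [Subgroup.index_ker, hker, hc, Subgroup.card_subtype] at h1
  have h2 := Subgroup.card_mul_index K
  rw [hidx, Subgroup.card_eq_card_quotient_mul_card_subgroup (Subgroup.center ↥K), Nat.card_congr e.toEquiv] at h2
  refine hQ.trans (le_of_eq ?_)
  refine mul_left_cancel₀ (Nat.card_pos (α := ↥(Subgroup.center ↥K))).ne' ?_
  rw [h1, ← h2]
  ring

end CfsgLib.Recog.FiFourProd
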