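import Cfsg.Agent.Lib.Recog.FiFourProd.Centralizer
import Cfsg.Agent.Lib.Recog.FiM22Two.PairM23
import Cfsg.Agent.Lib.Known.AutPSU.Out
import Cfsg.Agent.Lib.Classical.Unitary.MatrixStructure

set_option autoImplicit false
set_option maxRecDepth 20000
set_option linter.style.haveILetI false

/-!
The centraliser in the derived subgroup of a product of three commuting transpositions of a group identified with
Fi24 (owner: helper11).
-/

namespace CfsgLib.Recog.FiFourProd

open Cfsg CfsgLib.ThreeTrans CfsgLib.Recog.SporBound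
open CfsgLib.Recog.FiM22.Factor (nb)
open CfsgLib.Recog.SporBound.Fi22U6 (F4)

attribute [local instance] FiThree.finite_fi23'

/-- The joint centraliser of two commuting transpositions of Fi23. -/
theorem fi23_pair {r : Spor.Fi23} (hr : r ∈ nb FiThree.trans FiThree.zz) :
    IsQuasisimple ↥(Subgroup.centralizer ({FiThree.zz, r} : Set Spor.Fi23)) ∧
      (Subgroup.center ↥(Subgroup.centralizer ({FiThree.zz, r} : Set Spor.Fi23))).map
          (Subgroup.centralizer ({FiThree.zz, r} : Set Spor.Fi23)).subtype =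
        Subgroup.closure ({FiThree.zz, r} : Set Spor.Fi23) ∧
      Nonempty (↥(Subgroup.centralizer ({FiThree.zz, r} : Set Spor.Fi23)) ⧸
        Subgroup.center ↥(Subgroup.centralizer ({FiThree.zz, r} : Set Spor.Fi23)) ≃* FiM22.Q6) ∧
      ∃ s ∈ nb FiThree.trans FiThree.zz, s ≠ r ∧ Commute r s := by
  have hD := group_of_class FiThree.trans_class
  obtain ⟨d, S⟩ := FiM22Two.exists_sec22 hD FiTypes.primitive23 FiTypes.type23
  obtain ⟨g, hg⟩ := FiTypes.primitive23.1 FiThree.zz mem_conjugatesOf_self d S.mem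
  set e := g * r * g⁻¹ with he'
  have he : e ∈ nb FiThree.trans d := ⟨hD.2.1 g r hr.1,
    fun h => hr.2.1 (mul_left_cancel (mul_right_cancel (h.trans hg.symm))), hg ▸ commute_conj_iff.2 hr.2.2⟩
  let φ := (MulAut.conj g).toMonoidHom
  have hφK : (Subgroup.centralizer ({FiThree.zz, r} : Set Spor.Fi23)).map φ =
      Subgroup.centralizer ({d, e} : Set Spor.Fi23) := by
    ext x
    rw [Subgroup.mem_map_equiv, S.mem_pair, Subgroup.mem_centralizer_iff]
    simp only [Set.mem_insert_iff, Set.mem_singleton_iff, forall_eq_or_imp, forall_eq, MulAut.conj_symm_apply]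
    rw [← hg, he']
    constructor
    · rintro ⟨a, b⟩
      constructor
      · have := (commute_conj_iff (g := g)).2 (a : Commute FiThree.zz (g⁻¹ * x * g))
        rw [conj_cancel] at this
        exact this.symm
      · have := (commute_conj_iff (g := g)).2 (b : Commute r (g⁻¹ * x * g))
        rw [conj_cancel] at this
        exact this.symm
    · rintro ⟨a, b⟩
      constructor
      · refine ((commute_conj_iff (g := g)).1 ?_).eq
        rw [conj_cancel]; exact a.symm
      · refine ((commute_conj_iff (g := g)).1 ?_).eq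
        rw [conj_cancel]; exact b.symm
  let ι : ↥(Subgroup.centralizer ({FiThree.zz, r} : Set Spor.Fi23)) ≃* ↥(Subgroup.centralizer ({d, e} : Set Spor.Fi23)) :=
    ((Subgroup.centralizer ({FiThree.zz, r} : Set Spor.Fi23)).equivMapOfInjective φ (MulAut.conj g).injective).trans
      (MulEquiv.subgroupCongr hφK)
  obtain ⟨hqs, ⟨q⟩⟩ := S.pair_quotient FiTypes.center23 he
  have hcen := S.pair_center FiTypes.center23 he
  refine ⟨(CfsgLib.Components.isQuasisimple_congr ι).2 hqs, ?_,
    ⟨(QuotientGroup.congr _ _ ι (CfsgLib.Classical.Herm.map_center_of_equiv ι)).trans q⟩, ?_⟩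
  · have hcomp : φ.comp (Subgroup.centralizer ({FiThree.zz, r} : Set Spor.Fi23)).subtype =
        (Subgroup.centralizer ({d, e} : Set Spor.Fi23)).subtype.comp ι.toMonoidHom := by
      ext x; rfl
    apply Subgroup.map_injective (f := φ) (MulAut.conj g).injective
    rw [Subgroup.map_map, hcomp, ← Subgroup.map_map, CfsgLib.Classical.Herm.map_center_of_equiv ι, hcen,
      MonoidHom.map_closure, Set.image_pair, show φ FiThree.zz = d from hg, show φ r = e from rfl]
  · obtain ⟨B⟩ := FiM22.exists_base_at S.grp S.prim S.type (FiM22Two.im_mem_set he)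
    obtain ⟨w, ⟨⟨f, hf⟩, hfm, rfl⟩, hrne, hrc⟩ := B.nbrs_nonempty
    have hff : f ∈ nb FiThree.trans d := hfm
    change FiM22.Factor.im hff ≠ FiM22.Factor.im he at hrne
    change Commute (FiM22.Factor.im he) (FiM22.Factor.im hff) at hrc
    rw [S.comm_iff he hff] at hrc
    refine ⟨g⁻¹ * f * g, ⟨by simpa using hD.2.1 g⁻¹ f hff.1, fun h => hff.2.1 ?_, ?_⟩, fun h => hrne ?_, ?_⟩
    · rw [← conj_cancel g f, h, hg]
    · rw [← commute_conj_iff (g := g), conj_cancel, hg]; exact hff.2.2
    · have : f = e := by rw [he', ← h, conj_cancel]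
      subst this; rfl
    · rw [← commute_conj_iff (g := g), conj_cancel]; exact hrc

theorem card_mulAut_psu_le : Nat.card (MulAut (Cfsg.PSU 6 F4 2)) ≤ 6 * Nat.card (Cfsg.PSU 6 F4 2) := by
  haveI : Fact (Nat.Prime 2) := ⟨Nat.prime_two⟩
  have hF : Fintype.card F4 = 2 ^ 2 := F4.card
  obtain ⟨φ, hφ, -, hk⟩ := CfsgLib.Known.AutPSU.exists_out (n := 6) hF (by norm_num) (fun h => absurd h (by norm_num))
    (p := 2) (f := 1) le_rfl (by norm_num)
  have h1 := Subgroup.card_eq_card_quotient_mul_card_subgroup φ.ker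
  rw [Nat.card_congr (QuotientGroup.quotientKerEquivOfSurjective φ hφ).toEquiv, hk,
    Nat.card_congr Multiplicative.toAdd, Nat.card_zmod] at h1
  rw [Subgroup.card_eq_card_quotient_mul_card_subgroup (Cfsg.Inn (Cfsg.PSU 6 F4 2))]
  refine Nat.mul_le_mul (le_of_eq (h1.trans (by norm_num)))
    (Nat.card_le_card_of_surjective _
      (MonoidHom.rangeRestrict_surjective (MulAut.conj : Cfsg.PSU 6 F4 2 →* MulAut (Cfsg.PSU 6 F4 2))))

universe u

variable {G : Type u} [Group G] [Finite G] {D : Set G}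

/-- A triple of commuting members is conjugate in the derived subgroup to each of its rearrangements. -/
theorem triple_move (hD : IsThreeTranspositionGroup D) (hprim : IsPrimitiveUnderConj D)
    (hF : ∀ a ∈ D, ∀ b ∈ D, a ≠ b → Commute a b → Nonempty (PairFrame D a b))
    {x y z x' y' z' : G} (hx : x ∈ D) (hy : y ∈ D) (hz : z ∈ D) (hx' : x' ∈ D) (hy' : y' ∈ D) (hz' : z' ∈ D)
    (xy : x ≠ y) (xz : x ≠ z) (yz : y ≠ z) (xy' : x' ≠ y') (xz' : x' ≠ z') (yz' : y' ≠ z')
    (cxy : Commute x y) (cxz : Commute x z) (cyz : Commute y z)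
    (cxy' : Commute x' y') (cxz' : Commute x' z') (cyz' : Commute y' z') :
    ∃ g : G, g * x * g⁻¹ = x' ∧ g * y * g⁻¹ = y' ∧ g * z * g⁻¹ = z' := by
  have S : RankThree.Setting D := FiM22Two.setting_of_prim hD hprim ⟨x, hx, y, hy, xy, cxy⟩
  obtain ⟨g₀, hg₀⟩ := hprim.1 x hx x' hx'
  obtain ⟨m, hm, hm'⟩ := S.commute_transitive hx' (hD.2.1 g₀ y hy)
    (fun h => xy (mul_left_cancel (mul_right_cancel (hg₀.trans h.symm))))
    (hg₀ ▸ commute_conj_iff.2 cxy) hy' xy'.symm cxy'
  set g := m * g₀ with hg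
  have gx : g * x * g⁻¹ = x' := by
    rw [show g * x * g⁻¹ = m * (g₀ * x * g₀⁻¹) * m⁻¹ by rw [hg]; group, hg₀, hm.eq, mul_inv_cancel_right]
  have gy : g * y * g⁻¹ = y' := by rw [← hm', hg]; group
  have hz₀ : g * z * g⁻¹ ∈ D := hD.2.1 g z hz
  have z0x : g * z * g⁻¹ ≠ x' := fun h => xz (mul_left_cancel (mul_right_cancel (gx.trans h.symm)))
  have z0y : g * z * g⁻¹ ≠ y' := fun h => yz (mul_left_cancel (mul_right_cancel (gy.trans h.symm)))
  obtain ⟨F⟩ := hF x' hx' y' hy' xy' cxy'
  have hd : x' * x' = 1 := mul_self hD.1 hx'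
  have hd₂ : y' = x' * F.toG FiThree.zz := by rw [F.zz, ← mul_assoc, hd, one_mul]
  have hy'' : y' = F.toG FiThree.zz * x' := hd₂.trans (F.comm _).eq.symm
  have red : ∀ w ∈ D, w ≠ x' → w ≠ y' → Commute x' w → Commute y' w →
      ∃ r ∈ nb FiThree.trans FiThree.zz, w = F.toG r * x' := by
    intro w hw wx wy cx cy
    obtain ⟨t, ht, rfl⟩ := F.nbCases w hw wx cx
    refine ⟨t, ⟨ht, fun h => wy ((congrArg (fun q => F.toG q * x') h).trans hy''.symm), ?_⟩, rfl⟩
    have h1 : Commute (x' * y') (F.toG t * x') := cx.mul_left cy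
    rw [← F.zz] at h1
    have h2 : Commute (F.toG FiThree.zz) (F.toG t * x' * x') := h1.mul_right (F.comm _)
    rw [mul_assoc, hd, mul_one] at h2
    exact F.inj (by rw [map_mul, map_mul]; exact h2.eq)
  obtain ⟨r, hr, hre⟩ := red _ hz₀ z0x z0y (gx ▸ commute_conj_iff.2 cxz) (gy ▸ commute_conj_iff.2 cyz)
  obtain ⟨r', hr', hre'⟩ := red z' hz' xz'.symm yz'.symm cxz' cyz'
  have hD23 := group_of_class FiThree.trans_class
  have S23 : RankThree.Setting FiThree.trans := FiM22Two.setting_of_prim hD23 FiTypes.primitive23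
    ⟨FiThree.zz, mem_conjugatesOf_self, r, hr.1, hr.2.1.symm, hr.2.2⟩
  obtain ⟨k, hk, hk'⟩ := S23.commute_transitive mem_conjugatesOf_self hr.1 hr.2.1 hr.2.2 hr'.1 hr'.2.1 hr'.2.2
  have hkx : F.toG k * x' * (F.toG k)⁻¹ = x' := by rw [(F.comm k).eq, mul_inv_cancel_right]
  refine ⟨F.toG k * g, ?_, ?_, ?_⟩
  · rw [show F.toG k * g * x * (F.toG k * g)⁻¹ = F.toG k * (g * x * g⁻¹) * (F.toG k)⁻¹ by group, gx, hkx]
  · rw [show F.toG k * g * y * (F.toG k * g)⁻¹ = F.toG k * (g * y * g⁻¹) * (F.toG k)⁻¹ by group, gy]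
    rw [((congrArg (Commute (F.toG k)) hd₂).mpr ((F.comm k).mul_right (hk.map F.toG))).eq, mul_inv_cancel_right]
  · rw [show F.toG k * g * z * (F.toG k * g)⁻¹ = F.toG k * (g * z * g⁻¹) * (F.toG k)⁻¹ by group, hre, hre', ← hk',
      map_mul, map_mul, map_inv,
      show F.toG k * (F.toG r * x') * (F.toG k)⁻¹ = F.toG k * F.toG r * (F.toG k)⁻¹ * (F.toG k * x' * (F.toG k)⁻¹) by group,
      hkx]

theorem triple_centralizer (hD : IsThreeTranspositionGroup D) (hprim : IsPrimitiveUnderConj D) (d₀ : G)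
    (hd₀ : d₀ ∈ D)
    (h3 : Cfsg.pCore 3 ↥(Subgroup.closure {y : G | y ∈ D ∧ y ≠ d₀ ∧ Commute d₀ y}) ≤
      Subgroup.center ↥(Subgroup.closure {y : G | y ∈ D ∧ y ≠ d₀ ∧ Commute d₀ y}))
    (h2 : Cfsg.pCore 2 ↥(Subgroup.closure {y : G | y ∈ D ∧ y ≠ d₀ ∧ Commute d₀ y}) ≤
      Subgroup.center ↥(Subgroup.closure {y : G | y ∈ D ∧ y ≠ d₀ ∧ Commute d₀ y}))
    (h24 : IsOfTypeM24 G D) (hF : ∀ a ∈ D, ∀ b ∈ D, a ≠ b → Commute a b → Nonempty (PairFrame D a b))
    (d₁ d₂ d₃ : G) (h₁ : d₁ ∈ D) (h₂ : d₂ ∈ D) (h₃ : d₃ ∈ D) (h12 : d₁ ≠ d₂) (h13 : d₁ ≠ d₃) (h23 : d₂ ≠ d₃)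
    (c12 : Commute d₁ d₂) (c13 : Commute d₁ d₃) (c23 : Commute d₂ d₃) (E CL K : Subgroup G)
    (hE : E = Subgroup.closure ({d₁ * d₂, d₁ * d₃} : Set G))
    (hCL : CL = commutator G ⊓ Subgroup.centralizer ({d₁ * d₂ * d₃} : Set G))
    (hK : K = (Cfsg.generalizedFittingSubgroup ↥CL).map CL.subtype) :
    Cfsg.IsQuasisimple ↥K ∧ (Subgroup.center ↥K).map K.subtype = E ∧
      K = commutator G ⊓ Subgroup.centralizer (E : Set G) ∧
      (∃ (_ : (E.subgroupOf K).Normal) (F : Type) (_ : Field F) (_ : Fintype F), Fintype.card F = 4 ∧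
        Nonempty (↥K ⧸ E.subgroupOf K ≃* Cfsg.PSU 6 F 2)) ∧
      ∃ _ : (K.subgroupOf CL).Normal, Nonempty (↥CL ⧸ K.subgroupOf CL ≃* Equiv.Perm (Fin 3)) ∧ E ≤ CL ∧
        ∃ (_ : (E.subgroupOf CL).Normal) (F : Type) (_ : Field F) (_ : Fintype F), Fintype.card F = 4 ∧
          Nonempty (↥CL ⧸ E.subgroupOf CL ≃* MulAut (Cfsg.PSU 6 F 2)) := by
  classical
  obtain ⟨F⟩ := hF d₁ h₁ d₂ h₂ h12 c12
  have hd₁ : d₁ * d₁ = 1 := mul_self hD.1 h₁
  obtain ⟨r, hrt, hre⟩ := F.nbCases d₃ h₃ h13.symm c13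
  have hzr : d₁ * d₃ = F.toG r := by rw [hre, (F.comm r).eq, ← mul_assoc, hd₁, one_mul]
  have hr : r ∈ nb FiThree.trans FiThree.zz := by
    refine ⟨hrt, fun h => h23 (mul_left_cancel (a := d₁) ?_), ?_⟩
    · rw [hzr, h, F.zz]
    · refine F.inj ?_
      rw [map_mul, map_mul, F.zz, ← hzr]
      exact (Commute.mul_left ((Commute.refl d₁).mul_right c13) (c12.symm.mul_right c23)).eq
  obtain ⟨hq23, hc23, ⟨q⟩, s, hs, hsr, hrs⟩ := fi23_pair hr
  -- the joint centraliser
  set K₀ := commutator G ⊓ Subgroup.centralizer ({d₁, d₂, d₃} : Set G) with hK₀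
  have hmemK : ∀ x, x ∈ K₀ ↔ x ∈ commutator G ∧ Commute x d₁ ∧ Commute x d₂ ∧ Commute x d₃ := fun x => by
    rw [hK₀, Subgroup.mem_inf, Subgroup.mem_centralizer_iff]
    refine and_congr_right fun _ => ⟨fun h => ⟨(h d₁ (by simp)).symm, (h d₂ (by simp)).symm, (h d₃ (by simp)).symm⟩,
      fun h z hz => ?_⟩
    simp only [Set.mem_insert_iff, Set.mem_singleton_iff] at hz
    rcases hz with rfl | rfl | rfl
    exacts [h.1.eq.symm, h.2.1.eq.symm, h.2.2.eq.symm]
  have hd₂ : d₂ = d₁ * F.toG FiThree.zz := by rw [F.zz, ← mul_assoc, hd₁, one_mul]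
  have hd₃ : d₃ = d₁ * F.toG r := by rw [← hzr, ← mul_assoc, hd₁, one_mul]
  have hKmap : K₀ = (Subgroup.centralizer ({FiThree.zz, r} : Set Spor.Fi23)).map F.toG := by
    ext x
    rw [hmemK, Subgroup.mem_map]
    constructor
    · rintro ⟨hx, a, b, c⟩
      obtain ⟨v, rfl⟩ := F.surj x hx a
      refine ⟨v, Subgroup.mem_centralizer_iff.2 fun z hz => ?_, rfl⟩
      have key : ∀ w, Commute (F.toG v) (F.toG w) → w * v = v * w := fun w h =>
        F.inj (by rw [map_mul, map_mul]; exact h.eq.symm)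
      rcases hz with rfl | hz
      · exact key _ (by rw [F.zz]; exact a.mul_right b)
      · rw [Set.mem_singleton_iff] at hz
        subst hz
        exact key _ (by rw [← hzr]; exact a.mul_right c)
    · rintro ⟨v, hv, rfl⟩
      rw [Subgroup.mem_centralizer_iff] at hv
      refine ⟨F.mem v, F.comm v, ?_, ?_⟩
      · exact (congrArg (Commute (F.toG v)) hd₂).mpr
          ((F.comm v).mul_right ((show Commute v FiThree.zz from (hv _ (by simp)).symm).map F.toG))
      · rw [hd₃]; exact (F.comm v).mul_right ((show Commute v r from (hv _ (by simp)).symm).map F.toG)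
  let ι : ↥(Subgroup.centralizer ({FiThree.zz, r} : Set Spor.Fi23)) ≃* ↥K₀ :=
    ((Subgroup.centralizer ({FiThree.zz, r} : Set Spor.Fi23)).equivMapOfInjective F.toG F.inj).trans
      (MulEquiv.subgroupCongr hKmap.symm)
  have hqs : IsQuasisimple ↥K₀ := (CfsgLib.Components.isQuasisimple_congr ι).1 hq23
  have hcenK : (Subgroup.center ↥K₀).map K₀.subtype = E := by
    have hcomp : K₀.subtype.comp ι.toMonoidHom =
        F.toG.comp (Subgroup.centralizer ({FiThree.zz, r} : Set Spor.Fi23)).subtype := by ext x; rfl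
    rw [← CfsgLib.Classical.Herm.map_center_of_equiv ι, Subgroup.map_map, hcomp, ← Subgroup.map_map, hc23,
      MonoidHom.map_closure, Set.image_pair, F.zz, ← hzr, hE]
  let qK : ↥K₀ ⧸ Subgroup.center ↥K₀ ≃* Cfsg.PSU 6 F4 2 :=
    (QuotientGroup.congr _ _ ι (CfsgLib.Classical.Herm.map_center_of_equiv ι)).symm.trans q
  have hcentE : commutator G ⊓ Subgroup.centralizer (E : Set G) = K₀ := by
    ext x
    rw [hE, Subgroup.centralizer_closure, Subgroup.mem_inf, Subgroup.mem_centralizer_iff, hKmap, Subgroup.mem_map]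
    constructor
    · rintro ⟨hx, h⟩
      have ha : Commute x (d₁ * d₂) := (h _ (by simp)).symm
      have hb : Commute x (d₁ * d₃) := (h _ (by simp)).symm
      -- x permutes the members of both pairs, so it fixes their common one
      have key : ∀ b ∈ D, d₁ ≠ b → Commute d₁ b → Commute x (d₁ * b) → x * d₁ * x⁻¹ = d₁ ∨ x * d₁ * x⁻¹ = b := by
        intro b hbD hne hc hxb
        have hne' : x * d₁ * x⁻¹ ≠ x * b * x⁻¹ := fun e => hne (mul_left_cancel (mul_right_cancel e))
        have k2 := Cfsg.Agent.S5464.result hD hprim d₀ hd₀ h3 h2 (Or.inr h24) 2 (by norm_num) (d₁ * b)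
          [x * d₁ * x⁻¹, x * b * x⁻¹] [d₁, b]
          ⟨by simp [hne'], rfl, by simp [hD.2.1 x _ h₁, hD.2.1 x _ hbD], by
            have := (commute_conj_iff (g := x)).2 hc
            simp only [List.mem_cons, List.not_mem_nil, or_false]
            rintro p (rfl | rfl) p' (rfl | rfl)
            exacts [Commute.refl _, this, this.symm, Commute.refl _], by
            rw [List.prod_cons, List.prod_singleton, show x * d₁ * x⁻¹ * (x * b * x⁻¹) = x * (d₁ * b) * x⁻¹ by group,
              hxb.eq, mul_inv_cancel_right]⟩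
          ⟨by simp [hne], rfl, by simp [h₁, hbD], by
            simp only [List.mem_cons, List.not_mem_nil, or_false]
            rintro p (rfl | rfl) p' (rfl | rfl)
            exacts [Commute.refl _, hc, hc.symm, Commute.refl _], by simp⟩
        simpa using (k2 (x * d₁ * x⁻¹)).1 (by simp)
      have hx1 : x * d₁ * x⁻¹ = d₁ := by
        rcases key d₂ h₂ h12 c12 ha with e | e
        · exact e
        rcases key d₃ h₃ h13 c13 hb with e' | e'
        · exact e'
        · exact absurd (e.symm.trans e') h23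
      have hxd : Commute x d₁ := mul_inv_eq_iff_eq_mul.1 hx1
      obtain ⟨v, rfl⟩ := F.surj x hx hxd
      refine ⟨v, Subgroup.mem_centralizer_iff.2 fun z hz => F.inj ?_, rfl⟩
      rw [map_mul, map_mul]
      rcases hz with rfl | hz
      · rw [F.zz]; exact ha.eq.symm
      · rw [Set.mem_singleton_iff] at hz; subst hz; rw [← hzr]; exact hb.eq.symm
    · rintro ⟨v, hv, rfl⟩
      rw [Subgroup.mem_centralizer_iff] at hv
      refine ⟨F.mem v, fun z hz => ?_⟩
      rcases hz with rfl | hz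
      · rw [← F.zz, ← map_mul, ← map_mul, hv _ (by simp)]
      · rw [Set.mem_singleton_iff] at hz; subst hz
        rw [hzr, ← map_mul, ← map_mul, hv _ (by simp)]
  -- the action on the three members
  let v : Fin 3 → G := ![d₁, d₂, d₃]
  have hvm : ∀ i, v i ∈ D := by intro i; fin_cases i <;> assumption
  have hvc : ∀ i k, Commute (v i) (v k) := by
    intro i k
    fin_cases i <;> fin_cases k
    exacts [Commute.refl _, c12, c13, c12.symm, Commute.refl _, c23, c13.symm, c23.symm, Commute.refl _]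
  have hvi : Function.Injective v := by
    intro i k h
    fin_cases i <;> fin_cases k
    exacts [rfl, absurd h h12, absurd h h13, absurd h.symm h12, rfl, absurd h h23, absurd h.symm h13,
      absurd h.symm h23, rfl]
  have hl : ∀ σ : Equiv.Perm (Fin 3), CfsgLib.Recog.FiM22.Factor.ComList D [v (σ 0), v (σ 1), v (σ 2)] := by
    intro σ
    refine ⟨?_, by simp [hvm], ?_⟩
    · rw [show [v (σ 0), v (σ 1), v (σ 2)] = (List.finRange 3).map (v ∘ σ) by simp [List.finRange_succ]]
      exact (List.nodup_finRange 3).map (hvi.comp σ.injective)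
    · intro p hp q hq
      simp only [List.mem_cons, List.not_mem_nil, or_false] at hp hq
      rcases hp with rfl | rfl | rfl <;> rcases hq with rfl | rfl | rfl <;> exact hvc _ _
  have hmemCL : ∀ x, x ∈ CL ↔ x ∈ commutator G ∧ x * (d₁ * d₂ * d₃) * x⁻¹ = d₁ * d₂ * d₃ := fun x => by
    rw [hCL, Subgroup.mem_inf, Subgroup.mem_centralizer_singleton_iff, mul_inv_eq_iff_eq_mul]
  have hKC : K₀ ≤ CL := fun x hx => by
    obtain ⟨hL, a, b, c⟩ := (hmemK x).1 hx
    exact (hmemCL x).2 ⟨hL, mul_inv_eq_iff_eq_mul.2 ((a.mul_right b).mul_right c).eq⟩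
  have hperm : ∀ x : CL, ∀ i, ∃ k, (x : G) * v i * (x : G)⁻¹ = v k := by
    intro x i
    have hn : ([d₁, d₂, d₃] : List G).Nodup := (hl 1).nodup
    have hl' := (hl 1).conj hD.2.1 (x : G)
    have key := Cfsg.Agent.S5464.result hD hprim d₀ hd₀ h3 h2 (Or.inr h24) 3 le_rfl (d₁ * d₂ * d₃)
      ([d₁, d₂, d₃].map (MulAut.conj (x : G))) [d₁, d₂, d₃]
      ⟨hl'.nodup, rfl, hl'.mem, hl'.comm, by
        rw [← map_list_prod, MulAut.conj_apply]; simpa [mul_assoc] using ((hmemCL x).1 x.2).2⟩
      ⟨hn, rfl, (hl 1).mem, (hl 1).comm, by simp [mul_assoc]⟩ ((x : G) * v i * (x : G)⁻¹)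
    have hm := key.1 (by fin_cases i <;> simp [v])
    simp only [List.mem_cons, List.not_mem_nil, or_false] at hm
    rcases hm with h | h | h
    exacts [⟨0, h⟩, ⟨1, h⟩, ⟨2, h⟩]
  let f : CL → Fin 3 → Fin 3 := fun x i => (hperm x i).choose
  have hf : ∀ (x : CL) (i : Fin 3), (x : G) * v i * (x : G)⁻¹ = v (f x i) := fun x i => (hperm x i).choose_spec
  have hfmul : ∀ (x y : CL) (i : Fin 3), f (x * y) i = f x (f y i) := fun x y i => hvi (by
    rw [← hf, ← hf, ← hf, Subgroup.coe_mul]; group)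
  have hf1 : ∀ i, f 1 i = i := fun i => hvi (by rw [← hf]; simp)
  let φ : CL →* Equiv.Perm (Fin 3) :=
    { toFun := fun x => ⟨f x, f x⁻¹, fun i => by rw [← hfmul, inv_mul_cancel, hf1],
        fun i => by rw [← hfmul, mul_inv_cancel, hf1]⟩
      map_one' := Equiv.ext hf1
      map_mul' := fun x y => Equiv.ext (hfmul x y) }
  have hker : φ.ker = K₀.subgroupOf CL := by
    ext x
    rw [MonoidHom.mem_ker, Subgroup.mem_subgroupOf, hmemK]
    constructor
    · intro h
      have e : ∀ i, Commute (x : G) (v i) := fun i => by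
        have e := hf x i
        rw [show f x i = i from Equiv.ext_iff.1 h i] at e
        exact mul_inv_eq_iff_eq_mul.1 e
      exact ⟨((hmemCL x).1 x.2).1, e 0, e 1, e 2⟩
    · rintro ⟨-, a, b, c⟩
      refine Equiv.ext fun i => hvi ?_
      show v (f x i) = v i
      rw [← hf]
      fin_cases i
      exacts [mul_inv_eq_iff_eq_mul.2 a.eq, mul_inv_eq_iff_eq_mul.2 b.eq, mul_inv_eq_iff_eq_mul.2 c.eq]
  have hsurj : Function.Surjective φ := by
    intro σ
    have hn := (hl σ).nodup
    simp only [List.nodup_cons, List.mem_cons, List.not_mem_nil, not_or, not_false_iff, and_true, List.nodup_nil,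
      or_false] at hn
    obtain ⟨g, e0, e1, e2⟩ := triple_move hD hprim hF h₁ h₂ h₃ (hvm (σ 0)) (hvm (σ 1)) (hvm (σ 2)) h12 h13 h23
      hn.1.1 hn.1.2 hn.2 c12 c13 c23 (hvc _ _) (hvc _ _) (hvc _ _)
    obtain ⟨g', hg'L, hg'⟩ : ∃ g' ∈ commutator G, ∀ i, g' * v i * g'⁻¹ = v (σ i) := by
      have hg : ∀ i, g * v i * g⁻¹ = v (σ i) := by
        intro i; fin_cases i
        exacts [e0, e1, e2]
      rcases F.cases g with h | h
      · exact ⟨g, h, hg⟩
      · refine ⟨g * d₁, h, fun i => ?_⟩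
        rw [show g * d₁ * v i * (g * d₁)⁻¹ = g * (d₁ * v i * d₁⁻¹) * g⁻¹ by group,
          (show Commute d₁ (v i) from hvc 0 i).eq, mul_inv_cancel_right, hg]
    have hjC : g' ∈ CL := (hmemCL g').2 ⟨hg'L, by
      calc g' * (d₁ * d₂ * d₃) * g'⁻¹ = (g' * v 0 * g'⁻¹) * (g' * v 1 * g'⁻¹) * (g' * v 2 * g'⁻¹) := by
            show g' * (d₁ * d₂ * d₃) * g'⁻¹ = (g' * d₁ * g'⁻¹) * (g' * d₂ * g'⁻¹) * (g' * d₃ * g'⁻¹)
            group
        _ = v (σ 0) * v (σ 1) * v (σ 2) := by rw [hg', hg', hg']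
        _ = d₁ * d₂ * d₃ := by
          have hp : ([v (σ 0), v (σ 1), v (σ 2)] : List G).Perm [d₁, d₂, d₃] := by
            refine (List.perm_ext_iff_of_nodup (hl σ).nodup ((hl 1).nodup : [d₁, d₂, d₃].Nodup)).2 fun z => ?_
            constructor
            · intro hz
              simp only [List.mem_cons, List.not_mem_nil, or_false] at hz
              have : ∀ j, v j ∈ [d₁, d₂, d₃] := fun j => by fin_cases j <;> simp [v]
              rcases hz with rfl | rfl | rfl <;> exact this _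
            · intro hz
              obtain ⟨j, rfl⟩ : ∃ j, v j = z := by
                simp only [List.mem_cons, List.not_mem_nil, or_false] at hz
                rcases hz with h | h | h
                exacts [⟨0, h.symm⟩, ⟨1, h.symm⟩, ⟨2, h.symm⟩]
              obtain ⟨i, rfl⟩ := σ.surjective j
              fin_cases i <;> simp
          have := (hl 1).prod_perm hp.symm
          simpa [v, mul_assoc] using this⟩
    exact ⟨⟨g', hjC⟩, Equiv.ext fun i => hvi (by
      show v (f ⟨g', hjC⟩ i) = _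
      rw [← hf]; exact hg' i)⟩
  set K' := K₀.subgroupOf CL with hK'
  haveI hK'n : K'.Normal := hker ▸ inferInstance
  have hidx : K'.index = 6 := by
    rw [← hker, Subgroup.index_ker, MonoidHom.range_eq_top.2 hsurj, Subgroup.card_top, Nat.card_eq_fintype_card,
      Fintype.card_perm, Fintype.card_fin]
    rfl
  -- the common neighbour
  set w := F.toG s * d₁ with hw
  have hwD : w ∈ D := F.nbMem s hs.1
  have hwc : ∀ i, Commute w (v i) := by
    have hw1 : Commute w d₁ := (F.comm s).mul_left (Commute.refl d₁)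
    intro i; fin_cases i
    · exact hw1
    · show Commute w d₂
      exact (congrArg (Commute w) hd₂).mpr
        (hw1.mul_right (((show Commute s FiThree.zz from hs.2.2.symm).map F.toG).mul_left (F.comm _).symm))
    · show Commute w d₃
      rw [hd₃]
      exact hw1.mul_right (((show Commute s r from hrs.symm).map F.toG).mul_left (F.comm _).symm)
  have hwne : ∀ i, w ≠ v i := by
    intro i; fin_cases i
    · intro h
      have h1 : F.toG s = F.toG 1 := by rw [map_one]; exact mul_eq_right.1 h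
      have := FiThree.trans_class.1.1 s hs.1
      rw [F.inj h1, orderOf_one] at this
      omega
    · intro h
      exact hs.2.1 (F.inj (mul_right_cancel (b := d₁) (h.trans (hd₂.trans (F.comm _).eq.symm))))
    · intro h
      exact hsr (F.inj (mul_right_cancel (b := d₁) (h.trans (hd₃.trans (F.comm _).eq.symm))))
  have hcentK : ∀ c : ↥CL, c ∈ Subgroup.centralizer (K' : Set ↥CL) → c ∈ K' := by
    intro c hc
    rw [← hker, MonoidHom.mem_ker]
    refine Equiv.ext fun i => ?_
    show f c i = i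
    by_contra hne
    set w' := (c : G) * w * (c : G)⁻¹ with hw'
    have hw'D : w' ∈ D := hD.2.1 _ w hwD
    -- w v i lies in K and is fixed by c
    have hwv : ∀ i, w * v i ∈ K₀ := by
      intro i
      have hL : ∀ a ∈ D, a ∉ commutator G := fun a ha hm => F.notMem (by
        obtain ⟨g, hg⟩ := hprim.1 a ha d₁ h₁
        rw [← hg]; exact (inferInstance : (commutator G).Normal).conj_mem a hm g)
      have hmem : w * v i ∈ commutator G := by
        rcases F.cases w with h | h
        · exact absurd h (hL w hwD)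
        rcases F.cases (v i) with h' | h'
        · exact absurd h' (hL _ (hvm i))
        have e : w * v i = (w * d₁) * (v i * d₁) := by
          rw [mul_assoc w d₁, ← mul_assoc d₁, (show Commute d₁ (v i) from hvc 0 i).eq, mul_assoc (v i), hd₁, mul_one]
        rw [e]; exact mul_mem h h'
      exact (hmemK _).2 ⟨hmem, (hwc 0).mul_left (hvc i 0), (hwc 1).mul_left (hvc i 1), (hwc 2).mul_left (hvc i 2)⟩
    have hfix : w' * v (f c i) = w * v i := by
      have h := congrArg Subtype.val
        (Subgroup.mem_centralizer_iff.1 hc (⟨w * v i, hKC (hwv i)⟩ : ↥CL) (hwv i))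
      simp only [Subgroup.coe_mul] at h
      rw [hw', ← hf, show (c : G) * w * (c : G)⁻¹ * ((c : G) * v i * (c : G)⁻¹) = (c : G) * (w * v i) * (c : G)⁻¹ by group,
        ← h, mul_inv_cancel_right]
    have hkk : v (f c i) * v (f c i) = 1 := mul_self hD.1 (hvm _)
    have hw'e : w' = w * v i * v (f c i) := by rw [← hfix, mul_assoc, hkk, mul_one]
    have hne' : w' ≠ w := fun e => by
      rw [hw'e, mul_assoc, mul_eq_left] at e
      exact hne (hvi (by rw [eq_inv_of_mul_eq_one_left e]; exact inv_eq_of_mul_eq_one_right hkk)).symm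
    have hww : w' * w = v i * v (f c i) := by
      rw [hw'e, mul_assoc (w * v i), (hwc (f c i)).eq.symm, ← mul_assoc, mul_assoc w, ← (hwc i).eq, ← mul_assoc w,
        mul_self hD.1 hwD, one_mul]
    have key := Cfsg.Agent.S5464.result hD hprim d₀ hd₀ h3 h2 (Or.inr h24) 2 (by norm_num) (v i * v (f c i))
      [w', w] [v i, v (f c i)]
      ⟨by simp [hne'], rfl, by simp [hw'D, hwD], by
        have hcw : Commute w' w := by
          rw [hw'e]; exact ((Commute.refl w).mul_left (hwc i).symm).mul_left (hwc _).symm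
        simp only [List.mem_cons, List.not_mem_nil, or_false]
        rintro p (rfl | rfl) p' (rfl | rfl)
        exacts [Commute.refl _, hcw, hcw.symm, Commute.refl _], by simpa using hww⟩
      ⟨by simpa using fun e => hne (hvi e).symm, rfl, by simp [hvm], by
        simp only [List.mem_cons, List.not_mem_nil, or_false]
        rintro p (rfl | rfl) p' (rfl | rfl)
        exacts [Commute.refl _, hvc _ _, hvc _ _, Commute.refl _], by simp⟩
    have := (key w).1 (by simp)
    simp only [List.mem_cons, List.not_mem_nil, or_false] at this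
    rcases this with e | e <;> exact hwne _ e
  have hqs' : IsQuasisimple ↥K' :=
    (CfsgLib.Components.isQuasisimple_congr (Subgroup.subgroupOfEquivOfLe hKC)).2 hqs
  have hcent : Subgroup.centralizer (K' : Set ↥CL) = E.subgroupOf CL := by
    ext c
    rw [Subgroup.mem_subgroupOf, ← hcenK]
    constructor
    · intro h
      have hcK : (c : G) ∈ K₀ := Subgroup.mem_subgroupOf.1 (hcentK c h)
      refine ⟨⟨c, hcK⟩, Subgroup.mem_center_iff.2 fun p => Subtype.ext ?_, rfl⟩
      have e := congrArg Subtype.val (Subgroup.mem_centralizer_iff.1 h (⟨p, hKC p.2⟩ : ↥CL) p.2)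
      exact e
    · rintro ⟨p, hp, hpe⟩
      refine Subgroup.mem_centralizer_iff.2 fun y hy => Subtype.ext ?_
      show (y : G) * c = c * y
      rw [← hpe]
      exact congrArg Subtype.val (Subgroup.mem_center_iff.1 hp ⟨y, Subgroup.mem_subgroupOf.1 hy⟩)
  have hcmap : Subgroup.centralizer (K' : Set ↥CL) = (Subgroup.center ↥K').map K'.subtype := by
    ext c
    constructor
    · intro h
      exact ⟨⟨c, hcentK c h⟩, Subgroup.mem_center_iff.2 fun p => Subtype.ext
        (Subgroup.mem_centralizer_iff.1 h p p.2), rfl⟩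
    · rintro ⟨p, hp, rfl⟩
      exact Subgroup.mem_centralizer_iff.2 fun y hy =>
        congrArg Subtype.val (Subgroup.mem_center_iff.1 hp ⟨y, hy⟩)
  have hKeq : K = K₀ := by
    rw [hK, gFitting_eq_of_quasisimple hK'n hqs' hcentK, Subgroup.map_subgroupOf_eq_of_le hKC]
  subst hKeq
  haveI hEn : (E.subgroupOf CL).Normal := hcent ▸ inferInstance
  haveI : Finite (MulAut (Cfsg.PSU 6 F4 2)) :=
    Finite.of_injective (fun α : MulAut (Cfsg.PSU 6 F4 2) => (α : Cfsg.PSU 6 F4 2 → Cfsg.PSU 6 F4 2)) DFunLike.coe_injective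
  obtain ⟨ψ, hψs, hψk⟩ := quotient_equiv_mulAut hqs' hidx hcmap
    ((QuotientGroup.congr _ _ (Subgroup.subgroupOfEquivOfLe hKC)
      (CfsgLib.Classical.Herm.map_center_of_equiv _)).trans qK) card_mulAut_psu_le
  have hEK : E ≤ K₀ := hcenK ▸ Subgroup.map_subtype_le _
  have hEsub : Subgroup.center ↥K₀ = E.subgroupOf K₀ := by
    rw [← hcenK]; exact (Subgroup.comap_map_eq_self_of_injective K₀.subtype_injective _).symm
  refine ⟨hqs, hcenK, hcentE.symm, ⟨hEsub ▸ inferInstance, F4, inferInstance, inferInstance, F4.card, ?_⟩,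
    hK'n, ⟨(QuotientGroup.quotientMulEquivOfEq hker.symm).trans (QuotientGroup.quotientKerEquivOfSurjective φ hsurj)⟩,
    hEK.trans hKC, hEn, F4, inferInstance, inferInstance, F4.card,
    ⟨(QuotientGroup.quotientMulEquivOfEq (hcent.symm.trans hψk.symm)).trans
      (QuotientGroup.quotientKerEquivOfSurjective ψ hψs)⟩⟩
  haveI : (E.subgroupOf K₀).Normal := hEsub ▸ inferInstance
  exact ⟨(QuotientGroup.quotientMulEquivOfEq hEsub.symm).trans qK⟩

end CfsgLib.Recog.FiFourProd
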